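import Cfsg.Agent.Lib.Schur.PcPerm

/-!
# A tail certificate for a Sylow subgroup, on permutation codes
-/

set_option autoImplicit false
set_option maxRecDepth 100000
set_option maxHeartbeats 0

namespace Cfsg.Agent.Lib.Schur.SpStem.Cert.Sp43p2

open Cfsg.Agent.Lib.Schur.PcMain Cfsg.Agent.Lib.Schur.PcPerm

def rule_0 : List (List ℕ) := [[3, 4]]

def rule_1 : List (List ℕ) := [[1, 3], [4, 5, 6]]

def rule_2 : List (List ℕ) := [[2, 4], [2, 3, 4, 5], [3, 5]]

def rule_3 : List (List ℕ) := [[3, 5], [3, 5], [3, 6], [6]]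

def rule_4 : List (List ℕ) := [[4, 5], [4, 6], [4, 5], [4, 6], [6]]

def rule_5 : List (List ℕ) := [[5, 6], [5, 6], [5, 6], [5], [5], []]

def rule_6 : List (List ℕ) := [[6], [6], [6], [6], [6], [6], []]

def item_0 : List (List ℕ) × List (List ℕ) := ([[0], [1], [2], [3], [4], [5], [6]], [[2, 3, 5, 6], [0, 3, 4, 5], [1, 4, 5, 6], [4, 6], [3, 4, 5], [5, 6], [6]])

def item_1 : List (List ℕ) × List (List ℕ) := ([[1, 2, 4, 6], [0, 1, 3], [0, 1], [0, 2, 3, 4, 5], [5, 6], [6]], [[0, 2, 3, 4, 5, 6], [4, 6], [0, 2, 5, 6], [0, 1, 3, 4], [5, 6], [6]])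

def ov_0 : List ℕ × ℕ × ℕ × List (ℕ × ℤ) := ([3, 2, 1], 0, 1, [(4003, 1), (5002, -1), (5004, -1), (6001, 1), (6005, -3)])

def ov_1 : List ℕ × ℕ × ℕ × List (ℕ × ℤ) := ([4, 1, 0], 0, 1, [(4003, -1), (5001, -1), (5003, -1), (6000, 1), (6005, -2), (6006, -1)])

def ov_2 : List ℕ × ℕ × ℕ × List (ℕ × ℤ) := ([4, 3, 2], 0, 1, [(5003, -1), (6002, 1), (6004, 1)])

def ov_3 : List ℕ × ℕ × ℕ × List (ℕ × ℤ) := ([5, 2, 1], 0, 1, [(5003, -1), (5004, -1), (6001, 1), (6002, -1)])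

def ov_4 : List ℕ × ℕ × ℕ × List (ℕ × ℤ) := ([5, 4, 3], 0, 1, [(6005, 1)])

def ov_5 : List ℕ × ℕ × ℕ × List (ℕ × ℤ) := ([6, 1, 0], 0, 1, [(6003, -1)])

def ov_6 : List ℕ × ℕ × ℕ × List (ℕ × ℤ) := ([6, 2, 0], 0, 1, [(6004, -1)])

def ov_7 : List ℕ × ℕ × ℕ × List (ℕ × ℤ) := ([1, 1, 0], 0, 1, [(1000, -2), (3001, -1), (3003, -1), (4000, 1), (4003, -2), (5000, 1), (5003, -1), (6000, 1), (6003, -1), (6004, -1), (6005, -1), (6006, -1)])

def ov_8 : List ℕ × ℕ × ℕ × List (ℕ × ℤ) := ([2, 2, 0], 0, 1, [(2000, -2), (3000, 1), (4002, -1), (4004, -1), (5000, 1), (5004, -1)])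

def ov_9 : List ℕ × ℕ × ℕ × List (ℕ × ℤ) := ([3, 3, 0], 0, 1, [(3000, -2), (5003, -1), (5005, -1), (6000, 1), (6005, -2)])

def ov_10 : List ℕ × ℕ × ℕ × List (ℕ × ℤ) := ([3, 0, 0], 0, 1, [(3000, 2), (4003, 1), (5000, 1), (5005, 1), (6006, 1)])

def ov_11 : List ℕ × ℕ × ℕ × List (ℕ × ℤ) := ([3, 3, 1], 0, 1, [(3001, -2), (5003, -1), (5005, -1), (6001, 1), (6005, -2)])

def ov_12 : List ℕ × ℕ × ℕ × List (ℕ × ℤ) := ([3, 3, 2], 0, 1, [(3002, -2), (6002, 1), (6003, -1), (6006, -1)])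

def ov_13 : List ℕ × ℕ × ℕ × List (ℕ × ℤ) := ([0, 0, 0], 0, 1, [(3000, 1), (4000, 1), (5004, 1), (5005, 1)])

def ov_14 : List ℕ × ℕ × ℕ × List (ℕ × ℤ) := ([1, 1, 1], 0, 1, [(4001, 1), (5001, 1), (6001, 1), (6005, 1), (6006, 1)])

def ov_15 : List ℕ × ℕ × ℕ × List (ℕ × ℤ) := ([2, 2, 2], 0, 1, [(3002, 1), (5002, 1), (6005, 1), (6006, 1)])

def fr_0 : ℕ × List ℕ × List ℕ × List (ℕ × ℤ) := (0, [3, 0], [0, 3, 5], [(3000, -1), (4002, 1), (4003, 1), (5003, 1), (5004, -1), (6002, 1), (6003, 1), (6004, -1), (6005, 1), (1000005, -1)])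

def fr_1 : ℕ × List ℕ × List ℕ × List (ℕ × ℤ) := (0, [3, 1], [1, 3, 5], [(3001, -1), (4000, 1), (4003, 1), (5003, 1), (6000, 1), (6003, 1), (6005, 2), (1000005, -1)])

def fr_2 : ℕ × List ℕ × List ℕ × List (ℕ × ℤ) := (0, [4, 2], [2, 4, 5], [(3001, 1), (4001, 1), (4002, -1), (4003, -1), (5001, 1), (5003, -1), (6003, -1), (6005, -2), (1000005, -1)])

def fr_3 : ℕ × List ℕ × List ℕ × List (ℕ × ℤ) := (0, [5, 4], [4, 5], [(5003, 1), (6003, 1), (6004, 1), (6005, 1)])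

def fr_4 : ℕ × List ℕ × List ℕ × List (ℕ × ℤ) := (0, [6, 0], [0, 6], [(6000, -1), (6002, 1), (6003, 1), (6005, 1)])

def fr_5 : ℕ × List ℕ × List ℕ × List (ℕ × ℤ) := (1, [1, 0], [0, 1], [(1000, 1), (2000, 1), (2001, 1), (3003, 1), (4000, 2), (4002, 1), (4003, 1), (4004, 1), (5001, 1), (5002, 2), (5003, 1), (5004, -2), (5005, 2), (6000, 2), (6001, 1), (6002, 2), (6004, 1), (6005, -1), (6006, 3)])

def fr_6 : ℕ × List ℕ × List ℕ × List (ℕ × ℤ) := (1, [5, 2], [2, 5], [(6001, -1), (6002, 1), (6005, 1)])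

def tg_0 : ℕ × ℤ × List (ℕ × ℤ) := (1000, 0, [(0, 1)])

def tg_1 : ℕ × ℤ × List (ℕ × ℤ) := (2000, 0, [(1, 1)])

def tg_2 : ℕ × ℤ × List (ℕ × ℤ) := (3000, 0, [(2, 1)])

def tg_3 : ℕ × ℤ × List (ℕ × ℤ) := (3002, 0, [(3, 1)])

def tg_4 : ℕ × ℤ × List (ℕ × ℤ) := (6005, 0, [(8, 1)])

def tg_5 : ℕ × ℤ × List (ℕ × ℤ) := (6003, 0, [(9, -1)])

def tg_6 : ℕ × ℤ × List (ℕ × ℤ) := (6004, 0, [(10, -1)])

def tg_7 : ℕ × ℤ × List (ℕ × ℤ) := (5003, 0, [(23, 1)])

def tg_8 : ℕ × ℤ × List (ℕ × ℤ) := (6002, 0, [(6, 1)])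

def tg_9 : ℕ × ℤ × List (ℕ × ℤ) := (6001, 0, [(26, -1)])

def tg_10 : ℕ × ℤ × List (ℕ × ℤ) := (5004, 0, [(7, -1)])

def tg_11 : ℕ × ℤ × List (ℕ × ℤ) := (6006, 0, [(16, -1)])

def tg_12 : ℕ × ℤ × List (ℕ × ℤ) := (5002, 0, [(19, 1)])

def tg_13 : ℕ × ℤ × List (ℕ × ℤ) := (6000, 0, [(24, -1)])

def tg_14 : ℕ × ℤ × List (ℕ × ℤ) := (4003, 0, [(4, 1)])

def tg_15 : ℕ × ℤ × List (ℕ × ℤ) := (5005, 0, [(13, -1)])

def tg_16 : ℕ × ℤ × List (ℕ × ℤ) := (5000, 0, [(14, 1)])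

def tg_17 : ℕ × ℤ × List (ℕ × ℤ) := (5001, 0, [(5, -1)])

def tg_18 : ℕ × ℤ × List (ℕ × ℤ) := (4000, 0, [(17, 1)])

def tg_19 : ℕ × ℤ × List (ℕ × ℤ) := (4001, 0, [(18, 1)])

def tg_20 : ℕ × ℤ × List (ℕ × ℤ) := (4002, 0, [(15, -1), (21, 1), (22, -1)])

def tg_21 : ℕ × ℤ × List (ℕ × ℤ) := (4004, 0, [(12, -1)])

def tg_22 : ℕ × ℤ × List (ℕ × ℤ) := (3001, 0, [(20, 1), (21, -1)])

def tg_23 : ℕ × ℤ × List (ℕ × ℤ) := (3003, 0, [(11, -1)])

def tg_24 : ℕ × ℤ × List (ℕ × ℤ) := (2001, 0, [(25, 1)])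

def C : Cert where
  p := 2
  n := 7
  r := 3
  fuel := 34
  rules := [rule_0, rule_1, rule_2, rule_3, rule_4, rule_5, rule_6]
  defs := [(1, 0), (2, 0), (3, 0), (3, 2)]
  items := [item_0, item_1]
  ovs := [ov_0, ov_1, ov_2, ov_3, ov_4, ov_5, ov_6, ov_7, ov_8, ov_9, ov_10, ov_11, ov_12, ov_13, ov_14, ov_15]
  frs := [fr_0, fr_1, fr_2, fr_3, fr_4, fr_5, fr_6]
  k0 := 1000
  zm := 1
  zcomb := [(0, 1)]
  targets := [tg_0, tg_1, tg_2, tg_3, tg_4, tg_5, tg_6, tg_7, tg_8, tg_9, tg_10, tg_11, tg_12, tg_13, tg_14, tg_15, tg_16, tg_17, tg_18, tg_19, tg_20, tg_21, tg_22, tg_23, tg_24]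

def codes : List ℕ := [114257383159318282766412587227943633185734186624763713841300038418277418601542247957960998131464438467539039286411568207808921103355960987048294738235883214358795641766784, 228160752261137852877555595132910243109975273419280565478379020710429699059347726597167683105536488520305171088956577639536809694844451532753252373267842914655216448160384, 114257303396555870294054946512746016141197154331391547304787793992286506982088943360931706293959426167708910190687404002046204855052645098491132081265498689442131803718528, 147232505902527005723703572041709178453391509246215850083212946996187586737318647623390240801000799403992587457574624269236232159876769213768967829847669540438510365037696, 8716018124284300894073504097145097949816377793062548040844315016732719866580000668355013763374896711094079988713355801718608684040078956688973759249365919331973251868672, 152176393071884634013062332952891765696541055504074105543299070679985643464502327194230031357190403148428886141210604985157150033875761721153592447353003328697035651039488,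 152176405767690311172076632085844567099451891933251044377292917956356463807265566907490932172100242634210259559884925713039334463520569333657677737941036957055273570156800]

def conj : List ℕ := [113379786942828540172621248494139656109962160978572684613449529289758616876412696812572349902988017987753672839470549792412290026718655299656941370509961550267294763847168, 6083298670034992306702584209099307940859045867076575987168782125055185501330962807802786771246475523310705947992244418730183579127692607357872823452527604333930219836416]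

def base : List ℕ := [3, 1]

def ord : List ℕ := [0, 96, 118, 93, 123, 22, 27, 61, 32, 64, 86, 125, 91, 54, 59, 29, 87, 55, 98, 36, 65, 68, 2, 33, 23, 119, 4, 97, 66, 34, 1, 100, 92, 47, 122, 89, 57, 26, 79, 60, 20, 17, 71, 50, 82, 116, 39, 113, 31, 41, 106, 44, 76, 73, 127, 10, 67, 120, 5, 110, 14, 101, 24, 35, 80, 11, 102, 45, 77, 6, 107, 48, 94, 85, 8, 19, 115, 104, 53, 62, 28, 58, 111, 90, 124, 15, 25, 121, 95, 42, 105, 9, 74, 63, 108, 12, 84, 7, 81, 52, 49, 103, 18, 114, 3, 69, 56, 37, 99, 88, 46, 78, 30, 72, 21, 40, 126, 117, 83, 51, 16, 38, 75, 70, 112, 43, 109, 13]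

theorem check_ok : C.check = true := by decide +kernel

def cn : ℕ := nat_lit 81
def cw : ℕ := nat_lit 7
def cmask : ℕ := nat_lit 127
def cidc : ℕ := nat_lit 0x509f3a6cc972a4c88f1a2c4870a0c07ef9ebc76e9cb86ed9ab466c98b05eb96ac56a94a84e992a446890a03e78e9c3668c982e58a9426488901e3868c16284880e182840608080

theorem chk_ok : chkP cn cw cmask cidc C codes conj base ord = true := by decide +kernel

end Cfsg.Agent.Lib.Schur.SpStem.Cert.Sp43p2
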