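import Cfsg.Agent.Lib.Schur.PcPerm

/-!
# A tail certificate for a Sylow subgroup, on permutation codes
-/

set_option autoImplicit false
set_option maxRecDepth 100000
set_option maxHeartbeats 0

namespace Cfsg.Agent.Lib.Schur.SpStem.Cert.Sp43p3

open Cfsg.Agent.Lib.Schur.PcMain Cfsg.Agent.Lib.Schur.PcPerm

def rule_0 : List (List ℕ) := [[3, 3]]

def rule_1 : List (List ℕ) := [[1, 2], []]

def rule_2 : List (List ℕ) := [[2, 3], [2], []]

def rule_3 : List (List ℕ) := [[3], [3], [3], []]

def item_0 : List (List ℕ) × List (List ℕ) := ([[0], [1], [2], [3]], [[0, 0, 1, 2], [1, 2, 2, 3], [2, 2, 3, 3], [3]])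

def ov_0 : List ℕ × ℕ × ℕ × List (ℕ × ℤ) := ([2, 1, 0], 0, 1, [(3001, -1), (3002, -1)])

def ov_1 : List ℕ × ℕ × ℕ × List (ℕ × ℤ) := ([3, 1, 0], 0, 1, [(3002, -1)])

def ov_2 : List ℕ × ℕ × ℕ × List (ℕ × ℤ) := ([1, 0, 0, 0], 0, 1, [(1000, 3), (2000, 3), (2002, 1), (3000, 1), (3001, 2), (3002, 4), (3003, 1)])

def ov_3 : List ℕ × ℕ × ℕ × List (ℕ × ℤ) := ([2, 2, 2, 0], 0, 2, [(2000, -3), (3002, -3), (3003, -1)])

def fr_0 : ℕ × List ℕ × List ℕ × List (ℕ × ℤ) := (0, [2, 1], [1, 2], [(2001, 1), (3001, 2), (3002, 2)])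

def fr_1 : ℕ × List ℕ × List ℕ × List (ℕ × ℤ) := (0, [3, 0], [0, 3], [(3000, 1), (3001, 1), (3002, 1)])

def tg_0 : ℕ × ℤ × List (ℕ × ℤ) := (1000, 0, [(0, 1)])

def tg_1 : ℕ × ℤ × List (ℕ × ℤ) := (2000, 0, [(1, 1)])

def tg_2 : ℕ × ℤ × List (ℕ × ℤ) := (3002, 0, [(3, -1)])

def tg_3 : ℕ × ℤ × List (ℕ × ℤ) := (3001, 0, [(2, -1)])

def tg_4 : ℕ × ℤ × List (ℕ × ℤ) := (3003, 0, [(5, -1)])

def tg_5 : ℕ × ℤ × List (ℕ × ℤ) := (2001, 0, [(6, 1)])

def tg_6 : ℕ × ℤ × List (ℕ × ℤ) := (3000, 0, [(7, 1)])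

def tg_7 : ℕ × ℤ × List (ℕ × ℤ) := (2002, 0, [(4, 1)])

def C : Cert where
  p := 3
  n := 4
  r := 2
  fuel := 17
  rules := [rule_0, rule_1, rule_2, rule_3]
  defs := [(1, 0), (2, 0)]
  items := [item_0]
  ovs := [ov_0, ov_1, ov_2, ov_3]
  frs := [fr_0, fr_1]
  k0 := 1000
  zm := 1
  zcomb := [(0, 1)]
  targets := [tg_0, tg_1, tg_2, tg_3, tg_4, tg_5, tg_6, tg_7]

def codes : List ℕ := [156944739978778640632118721252448940468406054316517523472559197045102708176414046378104257298666850321708812090675448939281010806566249526209770561660467960095088835126528, 43089971907881571538926709728588553127588075300830021313132467992357019756530517935334882658981220028825364159797812145378019901358466647952276034808997259487877383497088, 94498693460698643507158501624980587935596972147770163434847135599819844683944535396302787349655739685278660178853160110402292467572583732551309216441164223925386630925184, 121079744232718278820066167555597565994924799549977600357966382935608048725904087235603328868641840679761293958366420316232302026619971618641740622006485810094186580531328]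

def conj : List ℕ := [272906541191646979329654763902654225849741337775852837851371049000043238897058331432722730126098499848662895179003928338957812812297107432697390589966121630403323405473280]

def base : List ℕ := [1, 3]

def ord : List ℕ := [53, 74, 23, 0, 30, 60, 49, 19, 79, 15, 36, 66, 61, 31, 1, 59, 8, 29, 10, 70, 40, 11, 41, 71, 21, 51, 72, 62, 2, 32, 39, 69, 9, 4, 55, 34, 45, 75, 24, 43, 13, 64, 14, 44, 65, 73, 52, 22, 47, 77, 26, 33, 54, 3, 17, 38, 68, 78, 18, 48, 67, 37, 16, 57, 6, 27, 25, 76, 46, 50, 80, 20, 28, 7, 58, 56, 5, 35, 63, 12, 42]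

theorem check_ok : C.check = true := by decide +kernel

def cn : ℕ := nat_lit 81
def cw : ℕ := nat_lit 7
def cmask : ℕ := nat_lit 127
def cidc : ℕ := nat_lit 0x509f3a6cc972a4c88f1a2c4870a0c07ef9ebc76e9cb86ed9ab466c98b05eb96ac56a94a84e992a446890a03e78e9c3668c982e58a9426488901e3868c16284880e182840608080

theorem chk_ok : chkP cn cw cmask cidc C codes conj base ord = true := by decide +kernel

end Cfsg.Agent.Lib.Schur.SpStem.Cert.Sp43p3
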