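import Cfsg.Agent.Lib.Schur.PcPerm

/-!
# A tail certificate for a Sylow subgroup, on permutation codes
-/

set_option autoImplicit false
set_option maxRecDepth 100000
set_option maxHeartbeats 0

namespace Cfsg.Agent.Lib.Schur.SpStem.Cert.Sp82p5

open Cfsg.Agent.Lib.Schur.PcMain Cfsg.Agent.Lib.Schur.PcPerm

def rule_0 : List (List ℕ) := [[]]

def rule_1 : List (List ℕ) := [[1], []]

def item_0 : List (List ℕ) × List (List ℕ) := ([[0], [1]], [[0, 0, 0, 0, 1], [0, 0]])

def ov_0 : List ℕ × ℕ × ℕ × List (ℕ × ℤ) := ([1, 1, 1, 1, 1, 0], 0, 4, [(1000, -5)])

def fr_0 : ℕ × List ℕ × List ℕ × List (ℕ × ℤ) := (0, [1, 0], [0, 1], [(1000, -3)])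

def tg_0 : ℕ × ℤ × List (ℕ × ℤ) := (1000, 0, [(0, 1), (1, -2)])

def C : Cert where
  p := 5
  n := 2
  r := 2
  fuel := 7
  rules := [rule_0, rule_1]
  defs := []
  items := [item_0]
  ovs := [ov_0]
  frs := [fr_0]
  k0 := 1000
  zm := 1
  zcomb := [(0, 1), (1, -2)]
  targets := [tg_0]

def codes : List ℕ := [12284693056387669854299881761499542005695472870539648080623390792578025329694066662975602565405675625645536618921958390062820000811049169366475893875781006281495135906679666826250399878243854700419427863571074659857774834500988529981518365782253794198104417964062661754658317437913654554550135780210387442726078457198766565786101512836269305426321522457209946067337560444789693941590260564196356129188777477939254190877101356633685085196781033746116045511671339200034518866456804229308433782372580085463251773019321936529324017285615915586912627971366484547406310905483019071783103090524694913470348878533458739278080, 22804516733708635758951298478860080673255327762981640323935551565117016022219708168174802428503865889312018911018528962237562791510183977969570687310698096025668565702446358641171879799211682468090102881400235379428870732135206072240156749782859358032186009467150139178600526534610032628524475771570607765801318929547045849617901640869139648244217672922682134005952358933284715475778999798388510372584617447956893807495388376819791473352271294706989019592817731744985498483865314328813242959725096814827673101149359763633339394574565985725465760577234437943085024654700981333808294240941257177492022392227466184823040]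

def conj : List ℕ := [28017007659859356288561896255813920271848990968257023491849616572639254120072308157995625136495434705328406843695559560066258936304506177029756915522119165714038727247762803603389392785860121586833840706314576175650532351972423326682396602151687621884974425093739814372563586408107715322782729951786850028072364376280667591464848146210802092863145984979815539764513689866749892101471896554397901156769998353496203563569919209785762199234106339557776783985624090901322533649813590338685002467938081901453042722017278193749717428647329155658522790020785653041704553633461040814752433322299033755213922626342779485237760]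

def base : List ℕ := [5]

def ord : List ℕ := [0, 8, 18, 21, 11, 4, 22, 10, 19, 7, 6, 14, 17, 3, 20, 12, 15, 23, 9, 1, 24, 2, 5, 16, 13]

theorem check_ok : C.check = true := by decide +kernel

def cn : ℕ := nat_lit 256
def cw : ℕ := nat_lit 8
def cmask : ℕ := nat_lit 255
def cidc : ℕ := nat_lit 0xfffefdfcfbfaf9f8f7f6f5f4f3f2f1f0efeeedecebeae9e8e7e6e5e4e3e2e1e0dfdedddcdbdad9d8d7d6d5d4d3d2d1d0cfcecdcccbcac9c8c7c6c5c4c3c2c1c0bfbebdbcbbbab9b8b7b6b5b4b3b2b1b0afaeadacabaaa9a8a7a6a5a4a3a2a1a09f9e9d9c9b9a999897969594939291908f8e8d8c8b8a898887868584838281807f7e7d7c7b7a797877767574737271706f6e6d6c6b6a696867666564636261605f5e5d5c5b5a595857565554535251504f4e4d4c4b4a494847464544434241403f3e3d3c3b3a393837363534333231302f2e2d2c2b2a292827262524232221201f1e1d1c1b1a191817161514131211100f0e0d0c0b0a09080706050403020100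

theorem chk_ok : chkP cn cw cmask cidc C codes conj base ord = true := by decide +kernel

end Cfsg.Agent.Lib.Schur.SpStem.Cert.Sp82p5
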